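import Cfsg.Agent.Lib.MonsterType.Local.Coords

/-!
# Moving a conjugate of `z` to `z` inside the centraliser of a subgroup of odd prime order
-/

set_option autoImplicit false

open scoped Pointwise

namespace CfsgLib.MonsterType

open Cfsg CfsgLib.Leech CfsgLib.LargeExtra

variable {G : Type*} [Group G] {z : G} {Q : Subgroup (Subgroup.centralizer ({z} : Set G))} [Q.Normal]
  {e : (Subgroup.centralizer ({z} : Set G)) ⧸ Q ≃* Spor.Co1}
  {ψ : leechLattice → Q ⧸ Subgroup.center Q} [Finite G]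

/-- An element carrying the pair `(x, z)` to the pair `(z, s)`. -/
theorem exists_move (hS : IsExtraspecialCentralizerSetting z Q 12) (hψ : IsLeechModTwoIso Q e ψ)
    {x s : G} (hxQ : x ∈ qG Q) (hx : IsConj z x) (hx1 : x ≠ z) (hsQ : s ∈ qG Q) (hs : IsConj z s)
    (hs1 : s ≠ z) : ∃ a : G, a * x * a⁻¹ = z ∧ a * z * a⁻¹ = s := by
  obtain ⟨g, rfl⟩ := isConj_iff.1 hx
  have hzx : z ∈ coreC (g * z * g⁻¹) := (goodAt hψ hS).symm_mem ((coreC_eq hS).symm ▸ hxQ)
  rw [coreC_conj, coreC_eq hS] at hzx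
  obtain ⟨q, hq, hqz⟩ := hzx
  simp only [MulEquiv.coe_toMonoidHom, MulAut.conj_apply] at hqz
  have hqg : q = g⁻¹ * z * g := by rw [← hqz]; group
  have hqc : IsConj z q := isConj_iff.2 ⟨g⁻¹, by rw [hqg, inv_inv]⟩
  have hq1 : q ≠ z := fun h => hx1 (by rw [h] at hqz; exact hqz)
  obtain ⟨hqC, hqQ⟩ := mem_qG_iff.1 hq
  obtain ⟨hsC, hsQ'⟩ := mem_qG_iff.1 hsQ
  obtain ⟨v, hv, hvq⟩ := exists_type64_of_conj hS hψ (x := ⟨⟨q, hqC⟩, hqQ⟩) hqc hq1
  obtain ⟨w, hw, hws⟩ := exists_type64_of_conj hS hψ (x := ⟨⟨s, hsC⟩, hsQ'⟩) hs hs1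
  obtain ⟨c, hc, hcq⟩ := conj_in_centralizer hS hψ (Or.inr (Or.inr rfl)) hv hw hvq hws
  refine ⟨c * g⁻¹, ?_, ?_⟩
  · calc c * g⁻¹ * (g * z * g⁻¹) * (c * g⁻¹)⁻¹ = c * z * c⁻¹ := by group
      _ = z := by rw [mul_inv_eq_iff_eq_mul]; exact Subgroup.mem_centralizer_singleton_iff.1 hc
  · exact (show c * g⁻¹ * z * (c * g⁻¹)⁻¹ = c * q * c⁻¹ by rw [hqg]; group).trans hcq

/-- An element interchanging `z` and another conjugate in `Q`. -/
theorem exists_swap (hS : IsExtraspecialCentralizerSetting z Q 12) (hψ : IsLeechModTwoIso Q e ψ)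
    {s : G} (hsQ : s ∈ qG Q) (hs : IsConj z s) (hs1 : s ≠ z) :
    ∃ a : G, a * s * a⁻¹ = z ∧ a * z * a⁻¹ = s ∧
      ∀ y ∈ Subgroup.centralizer ({z, s} : Set G), a * y * a⁻¹ ∈ Subgroup.centralizer ({z, s} : Set G) := by
  obtain ⟨a, ha1, ha2⟩ := exists_move hS hψ hsQ hs hs1 hsQ hs hs1
  refine ⟨a, ha1, ha2, fun y hy => Subgroup.mem_centralizer_iff.2 fun w hw => ?_⟩
  have h1 := Subgroup.mem_centralizer_iff.1 hy
  rcases hw with rfl | rfl
  · have h2 := h1 s (by simp)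
    calc w * (a * y * a⁻¹) = a * (s * y) * a⁻¹ := by rw [← ha1]; group
      _ = a * (y * s) * a⁻¹ := by rw [h2]
      _ = a * y * a⁻¹ * w := by rw [← ha1]; group
  · have h2 := h1 z (by simp)
    calc w * (a * y * a⁻¹) = a * (z * y) * a⁻¹ := by rw [← ha2]; group
      _ = a * (y * z) * a⁻¹ := by rw [h2]
      _ = a * y * a⁻¹ * w := by rw [← ha2]; group

theorem conj_pow_iter {h g : Co0} {r : ℕ} (hr : h * g * h⁻¹ = g ^ r) :
    ∀ j : ℕ, h ^ j * g * (h ^ j)⁻¹ = g ^ (r ^ j)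
  | 0 => by simp
  | j + 1 => by
    calc h ^ (j + 1) * g * (h ^ (j + 1))⁻¹ = h * (h ^ j * g * (h ^ j)⁻¹) * h⁻¹ := by rw [pow_succ']; group
      _ = MulAut.conj h (g ^ (r ^ j)) := by rw [conj_pow_iter hr j]; rfl
      _ = g ^ (r ^ (j + 1)) := by rw [map_pow, MulAut.conj_apply, hr, ← pow_mul, pow_succ']

/-- All automorphisms are induced once a primitive one is. -/
theorem hpow_of_primitive {h g : Co0} {r p : ℕ} (hr : h * g * h⁻¹ = g ^ r) (hg : g ^ p = 1)
    (hall : ∀ k < p, k ≠ 0 → ∃ j < p, r ^ j % p = k) {k : ℕ} (hk : ¬ p ∣ k) (hp : 0 < p) :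
    ∃ h' : Co0, h' * g * h'⁻¹ = g ^ k := by
  obtain ⟨j, -, hj⟩ := hall (k % p) (Nat.mod_lt _ hp) fun h => hk (Nat.dvd_of_mod_eq_zero h)
  refine ⟨h ^ j, (conj_pow_iter hr j).trans ?_⟩
  rw [pow_eq_pow_mod (r ^ j) hg, hj, ← pow_eq_pow_mod k hg]

namespace LocalData

variable {p : ℕ} {x : Q} {B : Subgroup G} {g : Co0}

/-- An element of the centraliser of `z` corrects a move to one centralising `B`. -/
theorem exists_fix_move (D : LocalData p e ψ x B g)
    (hpow : ∀ k : ℕ, ¬ p ∣ k → ∃ h : Co0, h * g * h⁻¹ = g ^ k) {y a : G} (ha : a * y * a⁻¹ = z) {l : G}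
    (hl : l ∈ Subgroup.centralizer ({z} : Set G)) (hlB : ∀ b ∈ B, l * a * b * (l * a)⁻¹ ∈ B) :
    ∃ c ∈ Subgroup.centralizer (B : Set G), c * y * c⁻¹ = z := by
  haveI : Fact p.Prime := ⟨D.prime⟩
  set a' := l * a with ha'
  have hy' : a' * y * a'⁻¹ = z := by
    calc a' * y * a'⁻¹ = l * (a * y * a⁻¹) * l⁻¹ := by rw [ha']; group
      _ = z := by rw [ha, mul_inv_eq_iff_eq_mul]; exact Subgroup.mem_centralizer_singleton_iff.1 hl
  obtain ⟨y₀, hy₀⟩ := (isCyclic_of_prime_card D.card).exists_generator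
  have hmem : (⟨a' * (y₀ : G) * a'⁻¹, hlB _ y₀.2⟩ : B) ∈ Subgroup.zpowers y₀ := hy₀ _
  rw [← mem_powers_iff_mem_zpowers, Submonoid.mem_powers_iff] at hmem
  obtain ⟨k, hk⟩ := hmem
  have hky : a' * (y₀ : G) * a'⁻¹ = (y₀ : G) ^ k := by
    have := congrArg Subtype.val hk
    simpa using this.symm
  have hy₀p : (y₀ : G) ^ p = 1 := by
    have := congrArg Subtype.val (pow_card_eq_one' (x := y₀))
    rw [D.card] at this
    simpa using this
  have hall : ∀ b ∈ B, ∃ i : ℕ, (y₀ : G) ^ i = b := by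
    intro b hb
    have h1 : (⟨b, hb⟩ : B) ∈ Subgroup.zpowers y₀ := hy₀ _
    rw [← mem_powers_iff_mem_zpowers, Submonoid.mem_powers_iff] at h1
    obtain ⟨i, hi⟩ := h1
    exact ⟨i, by simpa using congrArg Subtype.val hi⟩
  have hkp : ¬ p ∣ k := by
    rintro ⟨m, rfl⟩
    rw [pow_mul, hy₀p, one_pow, conj_eq_one_iff] at hky
    have : Nat.card B ≤ 1 := by
      rw [Finite.card_le_one_iff_subsingleton]
      refine ⟨fun b b' => Subtype.ext ?_⟩
      obtain ⟨i, hi⟩ := hall b b.2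
      obtain ⟨i', hi'⟩ := hall b' b'.2
      rw [← hi, ← hi', hky, one_pow, one_pow]
    rw [D.card] at this
    exact absurd D.prime.two_le (by omega)
  obtain ⟨h, hh⟩ := hpow k hkp
  obtain ⟨c₀, -, hc₀⟩ := D.lift_norm hh
  refine ⟨(c₀ : G)⁻¹ * a', Subgroup.mem_centralizer_iff.2 fun b hb => ?_, ?_⟩
  · obtain ⟨i, rfl⟩ := hall b hb
    have h1 : a' * (y₀ : G) ^ i * a'⁻¹ = ((y₀ : G) ^ i) ^ k := by
      rw [← MulAut.conj_apply, map_pow, MulAut.conj_apply, hky, ← pow_mul, ← pow_mul, mul_comm]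
    have h2 := hc₀ _ hb
    rw [← h1] at h2
    calc (y₀ : G) ^ i * ((c₀ : G)⁻¹ * a') = (c₀ : G)⁻¹ * ((c₀ : G) * (y₀ : G) ^ i * (c₀ : G)⁻¹) * a' := by group
      _ = (c₀ : G)⁻¹ * (a' * (y₀ : G) ^ i * a'⁻¹) * a' := by rw [h2]
      _ = (c₀ : G)⁻¹ * a' * (y₀ : G) ^ i := by group
  · calc (c₀ : G)⁻¹ * a' * y * ((c₀ : G)⁻¹ * a')⁻¹ = (c₀ : G)⁻¹ * (a' * y * a'⁻¹) * (c₀ : G) := by group
      _ = z := by
        rw [hy', mul_assoc, ← Subgroup.mem_centralizer_singleton_iff.1 c₀.2, ← mul_assoc, inv_mul_cancel, one_mul]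

end LocalData

/-- The order of the joint centraliser is a power of two times the order of the Mathieu group. -/
theorem card_jointCentralizer (hS : IsExtraspecialCentralizerSetting z Q 12) (hψ : IsLeechModTwoIso Q e ψ)
    {x : Q} (hbase : ψ baseVec = QuotientGroup.mk x) :
    ∃ m, Nat.card ↥(Subgroup.centralizer ({z, ((x : Subgroup.centralizer ({z} : Set G)) : G)} : Set G)) =
      2 ^ m * 244823040 := by
  classical
  set s : G := ((x : Subgroup.centralizer ({z} : Set G)) : G) with hs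
  set Ls : Subgroup (Subgroup.centralizer ({z} : Set G)) := (Subgroup.centralizer ({z} : Set G) ⊓ Subgroup.centralizer ({s} : Set G)).subgroupOf (Subgroup.centralizer ({z} : Set G))
    with hLs
  have hinf : Subgroup.centralizer ({z, s} : Set G) =
      Subgroup.centralizer ({z} : Set G) ⊓ Subgroup.centralizer ({s} : Set G) := by
    ext a
    constructor
    · exact fun h => ⟨Subgroup.centralizer_le (by simp) h, Subgroup.centralizer_le (by simp) h⟩
    · rintro ⟨h1, h2⟩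
      rw [Subgroup.mem_centralizer_iff]
      intro w hw
      rcases hw with hw | hw
      · exact Subgroup.mem_centralizer_iff.1 h1 w hw
      · exact Subgroup.mem_centralizer_iff.1 h2 w hw
  rw [hinf, ← Nat.card_congr (Subgroup.subgroupOfEquivOfLe (inf_le_left (a := Subgroup.centralizer ({z} : Set G)))).toEquiv]
  have hX : Ls.map (QuotientGroup.mk' Q) = crossStab.map (proj e) := by
    ext a
    obtain ⟨g, rfl⟩ := proj_surjective (e := e) a
    have h1 := proj_mem_xSub_iff (g := g) hS hψ hbase (by rw [sqNorm_baseVec]) (by rw [sqNorm_baseVec]; norm_num)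
    rw [← mem_crossStab_iff_congr] at h1
    refine h1.trans ⟨fun hg => ⟨g, hg, rfl⟩, ?_⟩
    rintro ⟨g', hg', hgg⟩
    have h2 : g'⁻¹ * g ∈ Subgroup.center Co0 := by
      rw [← proj_eq_one_iff (e := e), map_mul, map_inv, hgg, inv_mul_cancel]
    simpa using mul_mem hg' (center_le_crossStab h2)
  have hc1 := card_eq_map_mul_ker_inf (proj e) crossStab
  have hker : (proj e).ker = Subgroup.center Co0 := by
    ext a; exact proj_eq_one_iff
  rw [hker, inf_eq_left.2 center_le_crossStab, card_center_co0, card_crossStab] at hc1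
  have hc2 := card_eq_map_mul_ker_inf (QuotientGroup.mk' Q) Ls
  rw [hX, QuotientGroup.ker_mk'] at hc2
  have hd : Nat.card ↥(Q ⊓ Ls) ∣ 2 ^ 25 := card_Q hS ▸ Subgroup.card_dvd_of_le inf_le_left
  obtain ⟨m, -, hm⟩ := (Nat.dvd_prime_pow Nat.prime_two).1 hd
  refine ⟨11 + m, ?_⟩
  rw [hc2, hm, pow_add]
  have : Nat.card ↥(crossStab.map (proj e)) = 2 ^ 11 * 244823040 := by omega
  rw [this]
  ring

end CfsgLib.MonsterType
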