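import Cfsg.Agent.Lib.MonsterType.Local.Fixed
import Cfsg.Agent.Lib.Local.CharP

/-!
# The centraliser of a subgroup of odd prime order modulo that subgroup

It satisfies the extraspecial-centraliser setting at the image of `z`, with the group induced on the
fixed classes modulo two as the quotient.
-/

set_option autoImplicit false
set_option maxHeartbeats 1000000

open scoped Pointwise

namespace CfsgLib.MonsterType

open Cfsg CfsgLib.Leech CfsgLib.LargeExtra

variable {G : Type*} [Group G] {z : G} {Q : Subgroup (Subgroup.centralizer ({z} : Set G))} [Q.Normal]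
  {e : (Subgroup.centralizer ({z} : Set G)) ⧸ Q ≃* Spor.Co1}
  {ψ : leechLattice → Q ⧸ Subgroup.center Q} [Finite G] {p : ℕ} {x : Q} {B : Subgroup G} {g : Co0}

theorem LocalData.z_mem_centralizer (D : LocalData p e ψ x B g) :
    z ∈ Subgroup.centralizer (B : Set G) :=
  Subgroup.mem_centralizer_iff.2 fun _ hy => Subgroup.mem_centralizer_singleton_iff.1 (D.le_z hy)

theorem LocalData.le_centralizer_self (D : LocalData p e ψ x B g) :
    B ≤ Subgroup.centralizer (B : Set G) := by
  haveI : Fact p.Prime := ⟨D.prime⟩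
  haveI : IsCyclic B := isCyclic_of_prime_card D.card
  intro a ha
  refine Subgroup.mem_centralizer_iff.2 fun b hb => ?_
  letI : CommGroup B := IsCyclic.commGroup
  exact congrArg Subtype.val (mul_comm (⟨b, hb⟩ : B) ⟨a, ha⟩)

/-- The centraliser of `B` modulo `B` at the image of `z`. -/
theorem quot_setting {w : ℕ} (hw : 0 < w) (D : LocalData p e ψ x B g) (Φ : FixBasis g (2 * w))
    {L : Type*} [Group L] (F : Subgroup.centralizer ({g} : Set Co0) →* L) (hF : Function.Surjective F)
    (hker : ∀ h : Subgroup.centralizer ({g} : Set Co0),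
      F h = 1 ↔ (h : Co0) ∈ Subgroup.zpowers g ⊔ Subgroup.center Co0)
    (hfaith : ∀ h ∈ Subgroup.centralizer ({g} : Set Co0),
      (∀ i, h • Φ.b i - Φ.b i ∈ twoMul leechLattice) → h ∈ Subgroup.zpowers g ⊔ Subgroup.center Co0)
    (hL : pCore 2 L = ⊥) {c : G} (hc : c ∈ Subgroup.centralizer (B : Set G))
    (hcs : c * ((x : Subgroup.centralizer ({z} : Set G)) : G) * c⁻¹ = z)
    [hn : (B.subgroupOf (Subgroup.centralizer (B : Set G))).Normal] :
    ∃ (hz : z ∈ Subgroup.centralizer (B : Set G))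
      (Qb : Subgroup (Subgroup.centralizer ({(QuotientGroup.mk ⟨z, hz⟩ :
        ↥(Subgroup.centralizer (B : Set G)) ⧸ B.subgroupOf (Subgroup.centralizer (B : Set G)))} :
          Set (↥(Subgroup.centralizer (B : Set G)) ⧸ B.subgroupOf (Subgroup.centralizer (B : Set G))))))
      (_ : Qb.Normal),
      IsExtraspecialCentralizerSetting (QuotientGroup.mk ⟨z, hz⟩ :
        ↥(Subgroup.centralizer (B : Set G)) ⧸ B.subgroupOf (Subgroup.centralizer (B : Set G))) Qb w ∧
      Nonempty (_ ⧸ Qb ≃* L) ∧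
      ∀ d, d ∈ Qb ↔ ∃ q : Subgroup.centralizer (B : Set G), (q : G) ∈ qG Q ∧
        QuotientGroup.mk q = (d : ↥(Subgroup.centralizer (B : Set G)) ⧸
          B.subgroupOf (Subgroup.centralizer (B : Set G))) := by
  classical
  haveI : Fact (Nat.Prime 2) := ⟨Nat.prime_two⟩
  have hS := D.hS
  have hiso := D.iso
  have hzH := D.z_mem_centralizer
  have hBH := D.le_centralizer_self
  set H := Subgroup.centralizer (B : Set G) with hH
  let π : H →* H ⧸ B.subgroupOf H := QuotientGroup.mk' _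
  set zb : H ⧸ B.subgroupOf H := π ⟨z, hzH⟩ with hzb
  have hπ1 : ∀ a : H, π a = 1 ↔ (a : G) ∈ B := fun a =>
    (QuotientGroup.eq_one_iff a).trans Subgroup.mem_subgroupOf
  have hBQ : ∀ y ∈ B, y ∈ qG Q → y = 1 := fun y hy hyQ =>
    eq_one_of_mem_qG D.prime D.odd hS D.card hy hyQ
  -- the centraliser of the image of `z`
  set C0 : Subgroup H := (Subgroup.centralizer ({z} : Set G)).subgroupOf H with hC0
  have hmemC : ∀ a : C0, π (a : H) ∈ Subgroup.centralizer ({zb} : Set (H ⧸ B.subgroupOf H)) := fun a => by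
    rw [Subgroup.mem_centralizer_singleton_iff, hzb, ← map_mul, ← map_mul]
    exact congrArg π (Subtype.ext (Subgroup.mem_centralizer_singleton_iff.1 (Subgroup.mem_subgroupOf.1 a.2)))
  let πc : C0 →* Subgroup.centralizer ({zb} : Set (H ⧸ B.subgroupOf H)) :=
    (π.comp C0.subtype).codRestrict _ hmemC
  have hπc : Function.Surjective πc := by
    rintro ⟨d, hd⟩
    obtain ⟨a, rfl⟩ := QuotientGroup.mk'_surjective _ d
    rw [Subgroup.mem_centralizer_singleton_iff] at hd
    have h1 : π ((⟨z, hzH⟩ : H) * a * (⟨z, hzH⟩ : H)⁻¹ * a⁻¹) = 1 := by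
      rw [map_mul, map_mul, map_mul, map_inv, map_inv]
      show zb * π a * zb⁻¹ * (π a)⁻¹ = 1
      rw [mul_inv_eq_one, mul_inv_eq_iff_eq_mul]
      exact hd.symm
    rw [hπ1] at h1
    simp only [Subgroup.coe_mul, InvMemClass.coe_inv] at h1
    set b := z * (a : G) * z⁻¹ * (a : G)⁻¹ with hb
    have hzb' : Commute b z := Subgroup.mem_centralizer_singleton_iff.1 (D.le_z h1)
    have hab : (a : G) * z * (a : G)⁻¹ = b⁻¹ * z := by rw [hb]; group
    have hsq : b⁻¹ * b⁻¹ = 1 := by
      have h2 : b⁻¹ * z * (b⁻¹ * z) = 1 := by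
        rw [← hab]
        calc (a : G) * z * (a : G)⁻¹ * ((a : G) * z * (a : G)⁻¹) = (a : G) * (z * z) * (a : G)⁻¹ := by group
          _ = 1 := by rw [z_sq hS]; group
      rwa [(hzb'.inv_left).symm.mul_mul_mul_comm, z_sq hS, mul_one] at h2
    have hb1 : b⁻¹ = 1 := by
      have hdiv : orderOf b⁻¹ ∣ 2 := orderOf_dvd_of_pow_eq_one (by rw [pow_two]; exact hsq)
      have hdiv' : orderOf b⁻¹ ∣ p := D.card ▸ Subgroup.orderOf_dvd_natCard B (inv_mem h1)
      exact orderOf_eq_one_iff.1 (Nat.eq_one_of_dvd_coprimes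
        ((Nat.coprime_primes Nat.prime_two D.prime).2 (Ne.symm D.odd)) hdiv hdiv')
    rw [hb1, one_mul, mul_inv_eq_iff_eq_mul] at hab
    exact ⟨⟨a, Subgroup.mem_subgroupOf.2 (Subgroup.mem_centralizer_singleton_iff.2 hab)⟩, Subtype.ext rfl⟩
  -- the map to the group induced on the fixed classes
  let f : C0 →* (Subgroup.centralizer ({z} : Set G)) ⧸ Q := (QuotientGroup.mk' Q).comp
    ((H.subtype.comp C0.subtype).codRestrict (Subgroup.centralizer ({z} : Set G)) fun a =>
      Subgroup.mem_subgroupOf.1 a.2)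
  let pc : Subgroup.centralizer ({g} : Set Co0) →* (Subgroup.centralizer ({z} : Set G)) ⧸ Q :=
    (proj e).comp (Subgroup.centralizer ({g} : Set Co0)).subtype
  have hfc : ∀ a, f a ∈ pc.range := fun a => by
    obtain ⟨h, hh, he⟩ := D.proj_mem_cent (c := ⟨((a : H) : G), Subgroup.mem_subgroupOf.1 a.2⟩) (a : H).2
    exact ⟨⟨h, hh⟩, he⟩
  have hgc : ∀ h ∈ Subgroup.zpowers g ⊔ Subgroup.center Co0, proj e h ∈ Subgroup.zpowers (proj e g) := by
    intro h hh
    have h1 : Subgroup.zpowers g ⊔ Subgroup.center Co0 ≤ (Subgroup.zpowers (proj e g)).comap (proj e) :=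
      sup_le (Subgroup.zpowers_le.2 (Subgroup.mem_zpowers _)) fun a ha => by
        rw [Subgroup.mem_comap, proj_eq_one_iff.2 ha]; exact one_mem _
    exact h1 hh
  have hle : pc.rangeRestrict.ker ≤ F.ker := fun h hh => by
    rw [MonoidHom.mem_ker, hker]
    exact Subgroup.mem_sup_right (proj_eq_one_iff.1 (congrArg Subtype.val (MonoidHom.mem_ker.1 hh)))
  let Fb : pc.range →* L :=
    pc.rangeRestrict.liftOfSurjective pc.rangeRestrict_surjective ⟨F, hle⟩
  let σ : C0 →* L := Fb.comp (f.codRestrict pc.range hfc)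
  have hσ : ∀ a (h : Subgroup.centralizer ({g} : Set Co0)), proj e h = f a → σ a = F h := by
    intro a h hh
    show Fb ⟨f a, hfc a⟩ = F h
    rw [show (⟨f a, hfc a⟩ : pc.range) = pc.rangeRestrict h from Subtype.ext hh.symm]
    exact MonoidHom.liftOfRightInverse_comp_apply _ _ _ _ _
  have hσ1 : ∀ a, σ a = 1 ↔ f a ∈ Subgroup.zpowers (proj e g) := by
    intro a
    obtain ⟨h, hh⟩ := hfc a
    constructor
    · intro h1
      rw [hσ a h hh, hker] at h1
      rw [← hh]
      exact hgc _ h1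
    · intro h1
      obtain ⟨i, hi⟩ := Subgroup.mem_zpowers_iff.1 h1
      rw [hσ a ⟨g ^ i, zpow_mem (Subgroup.mem_centralizer_singleton_iff.2 rfl) i⟩ (by rw [← hi, map_zpow]),
        hker]
      exact Subgroup.mem_sup_left (zpow_mem (Subgroup.mem_zpowers g) i)
  have hσs : Function.Surjective σ := by
    intro l
    obtain ⟨h, rfl⟩ := hF l
    obtain ⟨d, hd, hdB⟩ := D.lift_cent h.2
    exact ⟨⟨⟨d, hdB⟩, Subgroup.mem_subgroupOf.2 d.2⟩, hσ _ h hd.symm⟩
  have hkerc : πc.ker ≤ σ.ker := fun a ha => by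
    rw [MonoidHom.mem_ker, hσ1, ← D.aligned]
    exact mem_barSub.2 ⟨_, (hπ1 _).1 (congrArg Subtype.val (MonoidHom.mem_ker.1 ha)), rfl⟩
  let σb : Subgroup.centralizer ({zb} : Set (H ⧸ B.subgroupOf H)) →* L := πc.liftOfSurjective hπc ⟨σ, hkerc⟩
  have hσb : ∀ a, σb (πc a) = σ a := fun a => MonoidHom.liftOfRightInverse_comp_apply _ _ _ _ a
  have hσbs : Function.Surjective σb := fun l => by
    obtain ⟨a, rfl⟩ := hσs l
    exact ⟨πc a, hσb a⟩
  -- the normal 2-subgroup
  set P : Subgroup Q := centQ Q B with hP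
  let incl : P →* C0 := ((((Subgroup.centralizer ({z} : Set G)).subtype.comp Q.subtype).comp
    P.subtype).codRestrict H fun q => q.2).codRestrict C0
      fun q => Subgroup.mem_subgroupOf.2 ((q : Q) : Subgroup.centralizer ({z} : Set G)).2
  let η : P →* Subgroup.centralizer ({zb} : Set (H ⧸ B.subgroupOf H)) := πc.comp incl
  have hη : Function.Injective η := by
    rw [injective_iff_map_eq_one]
    intro q hq
    have h1 := (hπ1 _).1 (congrArg Subtype.val hq)
    exact Subtype.ext (Subtype.ext (Subtype.ext (hBQ _ h1 (coe_mem_qG (q : Q)))))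
  set R := η.range with hR
  have hRker : R = σb.ker := by
    ext d
    obtain ⟨a, rfl⟩ := hπc d
    rw [MonoidHom.mem_ker, hσb, hσ1]
    constructor
    · rintro ⟨q, hq⟩
      rw [← hσ1, ← hσb, ← hq]
      show σb (πc (incl q)) = 1
      rw [hσb, hσ1, show f (incl q) = 1 from (QuotientGroup.eq_one_iff _).2 (q : Q).2]
      exact one_mem _
    · intro ha
      rw [← D.aligned] at ha
      obtain ⟨y, hy, hya⟩ := mem_barSub.1 ha
      have hq : y⁻¹ * ⟨((a : H) : G), Subgroup.mem_subgroupOf.1 a.2⟩ ∈ Q := QuotientGroup.eq.1 hya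
      refine ⟨⟨⟨_, hq⟩, ?_⟩, Subtype.ext ?_⟩
      · show ((y⁻¹ * ⟨((a : H) : G), _⟩ : Subgroup.centralizer ({z} : Set G)) : G) ∈ H
        exact mul_mem (inv_mem (hBH hy)) (a : H).2
      · refine (QuotientGroup.eq (s := B.subgroupOf H)).2 (Subgroup.mem_subgroupOf.2 ?_)
        simp only [Subgroup.coe_mul, InvMemClass.coe_inv, Subgroup.coe_subtype]
        show ((y : G)⁻¹ * ((a : H) : G))⁻¹ * ((a : H) : G) ∈ B
        have hcomm : Commute ((a : H) : G) (y : G) :=
          (Subgroup.mem_centralizer_iff.1 (a : H).2 _ hy).symm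
        rw [_root_.mul_inv_rev, inv_inv, mul_assoc, ← hcomm.eq, ← mul_assoc, inv_mul_cancel, one_mul]
        exact hy
  have hRn : R.Normal := by rw [hRker]; infer_instance
  have hzP : (⟨⟨z, self_mem_centralizer⟩, z_mem hS⟩ : Q) ∈ P := hzH
  set zP : P := ⟨_, hzP⟩ with hzPdef
  have hcenQ : ∀ q : Q, q ∈ Subgroup.center Q → q = 1 ∨ q = (zP : Q) := fun q hq => by
    rcases (center_cases hS).1 hq with h | h
    · exact Or.inl (Subtype.ext (Subtype.ext h))
    · exact Or.inr (Subtype.ext (Subtype.ext h))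
  let eR : P ≃* R := MonoidHom.ofInjective hη
  have hcenP : ∀ q : P, q ∈ Subgroup.center P ↔ q = 1 ∨ q = zP := by
    intro q
    constructor
    · intro hq
      rcases hcenQ _ (D.mem_center_of_commute_centQ q.2 fun q' hq' =>
        congrArg Subtype.val (Subgroup.mem_center_iff.1 hq ⟨q', hq'⟩).symm) with h | h
      · exact Or.inl (Subtype.ext h)
      · exact Or.inr (Subtype.ext h)
    · intro hq
      have h1 : (q : Q) ∈ Subgroup.center Q := (center_cases hS).2 (by rcases hq with rfl | rfl <;> simp [zP])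
      exact Subgroup.mem_center_iff.2 fun q' => Subtype.ext (Subgroup.mem_center_iff.1 h1 (q' : Q))
  have hRcard : Nat.card R = 2 ^ (2 * w + 1) := by
    rw [← Nat.card_congr eR.toEquiv]
    exact D.card_centQ Φ
  have hR2 : IsPGroup 2 R := IsPGroup.of_card hRcard
  have hzP1 : zP ≠ 1 := fun h =>
    z_ne_one hS (congrArg (fun q : P => (((q : Q) : Subgroup.centralizer ({z} : Set G)) : G)) h)
  have hRex : IsExtraspecial 2 R := by
    refine isExtraspecial_of_center hR2 (eR zP) (fun h => hzP1 (eR.injective (h.trans (map_one eR).symm)))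
      ?_ ?_ ?_ ?_
    · intro r
      obtain ⟨q, rfl⟩ := eR.surjective r
      rw [eR.injective.eq_iff, ← map_one eR, eR.injective.eq_iff, ← hcenP]
      simp only [Subgroup.mem_center_iff]
      exact ⟨fun h q' => eR.injective (by rw [map_mul, map_mul]; exact h (eR q')),
        fun h r' => by obtain ⟨q', rfl⟩ := eR.surjective r'; rw [← map_mul, ← map_mul, h q']⟩
    · intro r r'
      obtain ⟨q, rfl⟩ := eR.surjective r
      obtain ⟨q', rfl⟩ := eR.surjective r'
      simp only [← map_mul, ← map_inv, ← map_one eR, eR.injective.eq_iff]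
      rcases hcenQ _ (comm_mem_center (extraspecial hS) (q : Q) q') with h | h
      · exact Or.inl (Subtype.ext h)
      · exact Or.inr (Subtype.ext h)
    · intro r
      obtain ⟨q, rfl⟩ := eR.surjective r
      simp only [← map_mul, ← map_one eR, eR.injective.eq_iff]
      rcases hcenQ _ (sq_mem_center (extraspecial hS) (q : Q)) with h | h
      · exact Or.inl (Subtype.ext h)
      · exact Or.inr (Subtype.ext h)
    · by_contra! hab
      have hle : Nat.card R ≤ 2 := by
        have h1 : (Set.univ : Set R) ⊆ {1, eR zP} := fun r _ => by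
          obtain ⟨q, rfl⟩ := eR.surjective r
          have hq : q ∈ Subgroup.center P := Subgroup.mem_center_iff.2 fun q' =>
            eR.injective (by rw [map_mul, map_mul]; exact hab _ _)
          rcases (hcenP q).1 hq with rfl | rfl
          · exact Or.inl (map_one eR)
          · exact Or.inr rfl
        have := Set.ncard_le_ncard h1 (Set.toFinite _)
        rw [Set.ncard_univ] at this
        exact this.trans ((Set.ncard_insert_le _ _).trans (by rw [Set.ncard_singleton]))
      have h3 : 2 ^ 2 ≤ 2 ^ (2 * w + 1) := Nat.pow_le_pow_right (by norm_num) (by omega)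
      omega
  -- the generalised Fitting subgroup
  have hcharR : Subgroup.centralizer (R : Set (Subgroup.centralizer ({zb} : Set (H ⧸ B.subgroupOf H)))) ≤ R := by
    intro d hd
    obtain ⟨a, rfl⟩ := hπc d
    obtain ⟨h, hh⟩ := hfc a
    rw [hRker, MonoidHom.mem_ker, hσb, hσ a h hh, hker]
    refine hfaith _ h.2 fun i => ?_
    obtain ⟨q, hq⟩ := QuotientGroup.mk_surjective (ψ (Φ.b i))
    have hqP : q ∈ P := (D.mem_centQ_iff_congr hq.symm).2 (by rw [Φ.fixed, sub_self]; exact zero_mem _)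
    have hsm := psi_smul hiso (g := (h : Co0))
      (h := ⟨((a : H) : G), Subgroup.mem_subgroupOf.1 a.2⟩) hh hq.symm
    rw [← psi_eq_iff hiso, hsm, ← hq]
    congr 1
    refine Subtype.ext (Subtype.ext ?_)
    simp only [Subgroup.coe_mul, InvMemClass.coe_inv]
    have h1 := congrArg Subtype.val (Subgroup.mem_centralizer_iff.1 hd (η ⟨q, hqP⟩) ⟨⟨q, hqP⟩, rfl⟩)
    simp only [Subgroup.coe_mul] at h1
    have h2 := (QuotientGroup.eq (s := B.subgroupOf H)).1
      (show (QuotientGroup.mk ((incl ⟨q, hqP⟩ : H) * (a : H)) : H ⧸ B.subgroupOf H) =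
        QuotientGroup.mk ((a : H) * (incl ⟨q, hqP⟩ : H)) from h1)
    rw [Subgroup.mem_subgroupOf] at h2
    simp only [Subgroup.coe_mul, InvMemClass.coe_inv] at h2
    change (((q : Subgroup.centralizer ({z} : Set G)) : G) * ((a : H) : G))⁻¹ *
      (((a : H) : G) * ((q : Subgroup.centralizer ({z} : Set G)) : G)) ∈ B at h2
    have h3 := hBQ _ h2 (by
      have e1 : (((q : Subgroup.centralizer ({z} : Set G)) : G) * ((a : H) : G))⁻¹ *
          (((a : H) : G) * ((q : Subgroup.centralizer ({z} : Set G)) : G)) =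
          (((a : H) : G)⁻¹ * ((q : Subgroup.centralizer ({z} : Set G)) : G)⁻¹ * (((a : H) : G)⁻¹)⁻¹) *
            ((q : Subgroup.centralizer ({z} : Set G)) : G) := by group
      rw [e1]
      refine mul_mem ?_ (coe_mem_qG q)
      exact ⟨_, (inferInstance : Q.Normal).conj_mem _ (inv_mem q.2)
        (⟨((a : H) : G), Subgroup.mem_subgroupOf.1 a.2⟩ : Subgroup.centralizer ({z} : Set G))⁻¹, by simp⟩)
    rw [inv_mul_eq_one] at h3
    rw [← h3]
    group
  have hcore : pCore 2 (Subgroup.centralizer ({zb} : Set (H ⧸ B.subgroupOf H))) = R := by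
    refine le_antisymm ?_ (CfsgLib.Cores.le_pCore (N := R) hR2)
    have hnorm := (inferInstance :
      (pCore 2 (Subgroup.centralizer ({zb} : Set (H ⧸ B.subgroupOf H)))).Normal).map σb hσbs
    have h1 := CfsgLib.Cores.le_pCore
      (N := (pCore 2 (Subgroup.centralizer ({zb} : Set (H ⧸ B.subgroupOf H)))).map σb)
      ((CfsgLib.Cores.isPGroup_pCore 2).map σb)
    rw [hL, le_bot_iff, Subgroup.map_eq_bot_iff] at h1
    rw [hRker]
    exact h1
  have hF' : generalizedFittingSubgroup (Subgroup.centralizer ({zb} : Set (H ⧸ B.subgroupOf H))) = R := by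
    have hcp : CfsgLib.Local.HasCharP 2 (Subgroup.centralizer ({zb} : Set (H ⧸ B.subgroupOf H))) := by
      rw [CfsgLib.Local.HasCharP, hcore]; exact hcharR
    rw [hcp.generalizedFittingSubgroup_eq, hcore]
  have hzb1 : zb ≠ 1 := fun h => z_ne_one hS (hBQ z ((hπ1 _).1 h) (z_mem_qG hS))
  have hzb2 : orderOf zb = 2 := by
    refine orderOf_eq_prime ?_ hzb1
    rw [hzb, ← map_pow, ← map_one π]
    exact congrArg π (Subtype.ext (by rw [SubmonoidClass.coe_pow, pow_two]; exact z_sq hS))
  refine ⟨hzH, R, hRn, ⟨hzb2, hF', hRex, hRcard, ?_⟩, ⟨?_⟩, ?_⟩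
  · -- the second conjugate
    set s : G := ((x : Subgroup.centralizer ({z} : Set G)) : G) with hsdef
    have hsH : s ∈ H := D.self_mem_centQ
    have hgs : (π ⟨c, hc⟩)⁻¹ * zb * ((π ⟨c, hc⟩)⁻¹)⁻¹ = π ⟨s, hsH⟩ := by
      rw [hzb, ← map_inv, ← map_inv, ← map_mul, ← map_mul]
      refine congrArg π (Subtype.ext ?_)
      simp only [Subgroup.coe_mul, InvMemClass.coe_inv]
      rw [← hcs]
      group
    refine ⟨(π ⟨c, hc⟩)⁻¹, ⟨?_, ⟨x, D.self_mem_centQ⟩, Subtype.ext hgs.symm⟩, fun h => ?_⟩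
    · exact (show _ = _ from hgs) ▸ (η ⟨x, D.self_mem_centQ⟩).2
    · replace h : π ⟨s, hsH⟩ = π ⟨z, hzH⟩ := hgs.symm.trans h
      have h1 := (QuotientGroup.eq (s := B.subgroupOf H)).1 h
      rw [Subgroup.mem_subgroupOf] at h1
      simp only [Subgroup.coe_mul, InvMemClass.coe_inv] at h1
      exact D.isConj_s.2 (inv_mul_eq_one.1 (hBQ _ h1 (mul_mem (inv_mem (coe_mem_qG x)) (z_mem_qG hS))))
  · exact (QuotientGroup.quotientMulEquivOfEq hRker).trans
      (QuotientGroup.quotientKerEquivOfSurjective σb hσbs)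
  · intro d
    constructor
    · rintro ⟨q, rfl⟩
      exact ⟨⟨(((q : Q) : Subgroup.centralizer ({z} : Set G)) : G), q.2⟩, coe_mem_qG (q : Q), rfl⟩
    · rintro ⟨q, hq, hqd⟩
      obtain ⟨hqc, hqQ⟩ := mem_qG_iff.1 hq
      exact ⟨⟨⟨⟨(q : G), hqc⟩, hqQ⟩, q.2⟩, Subtype.ext hqd⟩

end CfsgLib.MonsterType
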