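import Cfsg.Agent.Lib.MonsterType.Local.Coords

/-!
# Fixed classes modulo two of an automorphism of odd order
-/

set_option autoImplicit false

open scoped Pointwise

namespace CfsgLib.MonsterType

open Cfsg CfsgLib.Leech

/-- A basis modulo two of the vectors fixed by an automorphism. -/
structure FixBasis (g : Co0) (n : ℕ) where
  b : Fin n → leechLattice
  fixed : ∀ i, g • b i = b i
  span : ∀ v : leechLattice, g • v = v → ∃ S : Finset (Fin n), v - ∑ i ∈ S, b i ∈ twoMul leechLattice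
  indep : ∀ S : Finset (Fin n), (∑ i ∈ S, b i) ∈ twoMul leechLattice → S = ∅

theorem smul_sum' (g : Co0) {ι : Type*} (S : Finset ι) (f : ι → leechLattice) :
    g • ∑ i ∈ S, f i = ∑ i ∈ S, g • f i :=
  map_sum (actHom g) f S

theorem natCast_smul_sub_self (v : leechLattice) {p : ℕ} (hp : Odd p) :
    p • v - v ∈ twoMul leechLattice := by
  obtain ⟨m, rfl⟩ := hp
  rw [mem_twoMul_iff_add]
  exact ⟨m • v, by rw [succ_nsmul, add_sub_cancel_right, two_mul, add_nsmul]⟩

theorem pow_smul_congr {g : Co0} {v : leechLattice} (hv : g • v - v ∈ twoMul leechLattice) :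
    ∀ i : ℕ, (g ^ i) • v - v ∈ twoMul leechLattice
  | 0 => by rw [pow_zero, one_smul, sub_self]; exact zero_mem _
  | i + 1 => by
    have h := add_mem (smul_mem_twoMul g (pow_smul_congr hv i)) hv
    rwa [smul_sub', ← mul_smul, ← pow_succ', sub_add_sub_cancel] at h

/-- The orbit sum of a vector is fixed. -/
theorem smul_orbit_sum {g : Co0} {p : ℕ} (hg : g ^ p = 1) (v : leechLattice) :
    g • (∑ i ∈ Finset.range p, (g ^ i) • v) = ∑ i ∈ Finset.range p, (g ^ i) • v := by
  rw [smul_sum']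
  have h1 := Finset.sum_range_succ' (fun i => (g ^ i) • v) p
  have h2 := Finset.sum_range_succ (fun i => (g ^ i) • v) p
  rw [h2, hg, pow_zero] at h1
  rw [add_right_cancel h1]
  refine Finset.sum_congr rfl fun i _ => ?_
  rw [← mul_smul, ← pow_succ']

/-- A class fixed by an element of odd order contains a fixed vector. -/
theorem exists_fixed_rep {g : Co0} {p : ℕ} (hp : Odd p) (hg : g ^ p = 1) {v : leechLattice}
    (hv : g • v - v ∈ twoMul leechLattice) :
    ∃ u : leechLattice, g • u = u ∧ u - v ∈ twoMul leechLattice := by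
  refine ⟨_, smul_orbit_sum hg v, ?_⟩
  have h1 : ∑ i ∈ Finset.range p, ((g ^ i) • v - v) ∈ twoMul leechLattice :=
    AddSubgroup.sum_mem _ fun i _ => pow_smul_congr hv i
  rw [Finset.sum_sub_distrib, Finset.sum_const, Finset.card_range] at h1
  have h2 := add_mem h1 (natCast_smul_sub_self v hp)
  rwa [sub_add_sub_cancel] at h2

namespace FixBasis

variable {g : Co0} {n : ℕ} (Φ : FixBasis g n)

theorem fixed_sum (S : Finset (Fin n)) : g • (∑ i ∈ S, Φ.b i) = ∑ i ∈ S, Φ.b i := by
  rw [smul_sum']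
  exact Finset.sum_congr rfl fun i _ => Φ.fixed i

/-- Every fixed class is the class of a sum of basis vectors. -/
theorem span_congr {p : ℕ} (hp : Odd p) (hg : g ^ p = 1) {v : leechLattice}
    (hv : g • v - v ∈ twoMul leechLattice) :
    ∃ S : Finset (Fin n), v - ∑ i ∈ S, Φ.b i ∈ twoMul leechLattice := by
  obtain ⟨u, hu, huv⟩ := exists_fixed_rep hp hg hv
  obtain ⟨S, hS⟩ := Φ.span u hu
  refine ⟨S, ?_⟩
  have h := sub_mem hS huv
  rwa [sub_sub_sub_cancel_left] at h

/-- Different sets give different classes. -/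
theorem eq_of_congr {S T : Finset (Fin n)}
    (h : (∑ i ∈ S, Φ.b i) - ∑ i ∈ T, Φ.b i ∈ twoMul leechLattice) : S = T := by
  classical
  have hsum : (∑ i ∈ symmDiff S T, Φ.b i) ∈ twoMul leechLattice := by
    have hT : (∑ i ∈ T, Φ.b i) + (∑ i ∈ T, Φ.b i) ∈ twoMul leechLattice :=
      mem_twoMul_iff_add.2 ⟨_, rfl⟩
    have h1 := add_mem h hT
    rw [sub_add_eq_add_sub, ← add_assoc, add_sub_cancel_right] at h1
    rw [← Finset.sum_sdiff (Finset.inter_subset_left : S ∩ T ⊆ S),
      ← Finset.sum_sdiff (Finset.inter_subset_right : S ∩ T ⊆ T)] at h1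
    have h2 : (∑ i ∈ S ∩ T, Φ.b i) + (∑ i ∈ S ∩ T, Φ.b i) ∈ twoMul leechLattice :=
      mem_twoMul_iff_add.2 ⟨_, rfl⟩
    have h3 := sub_mem h1 h2
    rw [show symmDiff S T = (S \ (S ∩ T)) ∪ (T \ (S ∩ T)) by
      ext a; simp [Finset.mem_symmDiff]]
    rw [Finset.sum_union (Finset.disjoint_left.2 fun a ha hb => by simp at ha hb; tauto)]
    convert h3 using 1
    abel
  have he := Φ.indep _ hsum
  rwa [← Finset.bot_eq_empty, symmDiff_eq_bot] at he

end FixBasis

end CfsgLib.MonsterType
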