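import Cfsg.Agent.Lib.MonsterType.Frame

/-!
# Coordinates adapted to a subgroup of odd prime order in the joint centraliser of two conjugates

The identification with the lattice may be chosen so that the second involution corresponds to the
base vector and the subgroup of order `p` to an element of the stabiliser of the cross.
-/

set_option autoImplicit false

open scoped Pointwise

namespace CfsgLib.MonsterType

open Cfsg CfsgLib.Leech CfsgLib.LargeExtra

theorem sqNorm_baseVec : sqNorm (baseVec : GolayPt → ℤ) = 64 := by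
  rw [baseVec, coe_axisVec, sqNorm_single]; norm_num

variable {G : Type*} [Group G] {z : G} {Q : Subgroup (Subgroup.centralizer ({z} : Set G))} [Q.Normal]

/-- The identification followed by an inner automorphism. -/
noncomputable def eTw (e : (Subgroup.centralizer ({z} : Set G)) ⧸ Q ≃* Spor.Co1) (g₀ : Co0) :
    (Subgroup.centralizer ({z} : Set G)) ⧸ Q ≃* Spor.Co1 :=
  e.trans (MulAut.conj (QuotientGroup.mk g₀ : Spor.Co1))

theorem proj_eTw (e : (Subgroup.centralizer ({z} : Set G)) ⧸ Q ≃* Spor.Co1) (g₀ g : Co0) :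
    proj (eTw e g₀) g = proj e (g₀⁻¹ * g * g₀) := by
  simp [proj, eTw, MulEquiv.symm_trans_apply]

variable {e : (Subgroup.centralizer ({z} : Set G)) ⧸ Q ≃* Spor.Co1}
  {ψ : leechLattice → Q ⧸ Subgroup.center Q}

theorem isoTwist (hψ : IsLeechModTwoIso Q e ψ) (g₀ : Co0) :
    IsLeechModTwoIso Q (eTw e g₀) (fun v => ψ (g₀⁻¹ • v)) := by
  obtain ⟨h1, h2, h3, h4⟩ := hψ
  refine ⟨fun v w => ?_, fun y => ?_, fun v => ?_, fun h g hg v q hq => ?_⟩
  · show ψ (g₀⁻¹ • (v + w)) = _
    rw [smul_add', h1]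
  · obtain ⟨v, hv⟩ := h2 y
    exact ⟨g₀ • v, by show ψ (g₀⁻¹ • g₀ • v) = y; rw [inv_smul_smul, hv]⟩
  · show ψ (g₀⁻¹ • v) = 1 ↔ _
    rw [h3]
    constructor
    · rintro ⟨w, hw⟩
      exact ⟨g₀ • w, by rw [← smul_add', ← hw, smul_inv_smul]⟩
    · rintro ⟨w, rfl⟩
      exact ⟨g₀⁻¹ • w, smul_add' _ _ _⟩
  · show ψ (g₀⁻¹ • g • v) = _
    have hg' : (QuotientGroup.mk (g₀⁻¹ * g * g₀) : Spor.Co1) = e (QuotientGroup.mk h) := by
      rw [QuotientGroup.mk_mul, QuotientGroup.mk_mul, QuotientGroup.mk_inv, hg]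
      simp [eTw, mul_assoc]
    rw [show g₀⁻¹ • g • v = (g₀⁻¹ * g * g₀) • g₀⁻¹ • v by
      rw [mul_smul, mul_smul, smul_inv_smul]]
    exact h4 h _ hg' _ q hq

/-- A subgroup of odd prime order in the joint centraliser of `z` and a conjugate, in coordinates. -/
structure LocalData [Finite G] (p : ℕ) (e : (Subgroup.centralizer ({z} : Set G)) ⧸ Q ≃* Spor.Co1)
    (ψ : leechLattice → Q ⧸ Subgroup.center Q) (x : Q) (B : Subgroup G) (g : Co0) : Prop where
  hS : IsExtraspecialCentralizerSetting z Q 12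
  iso : IsLeechModTwoIso Q e ψ
  base : ψ baseVec = QuotientGroup.mk x
  le : B ≤ Subgroup.centralizer ({z, ((x : Subgroup.centralizer ({z} : Set G)) : G)} : Set G)
  prime : p.Prime
  odd : p ≠ 2
  card : Nat.card B = p
  gmem : g ∈ crossStab
  gord : orderOf g = p
  aligned : barSub Q B = Subgroup.zpowers (proj e g)

theorem center_le_crossStab : Subgroup.center Co0 ≤ crossStab := fun a ha => by
  rcases center_co0_cases ha with rfl | rfl
  exacts [one_mem _, negAut_mem_crossStab]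

/-- Elements of odd order congruent modulo the centre are equal. -/
theorem eq_of_proj_eq {p : ℕ} (hp : Odd p) {a b : Co0} (ha : a ^ p = 1) (hb : b ^ p = 1)
    (h : proj e a = proj e b) : a = b := by
  have hc : a⁻¹ * b ∈ Subgroup.center Co0 := by
    rw [← proj_eq_one_iff (e := e), map_mul, map_inv, h, inv_mul_cancel]
  have hb' : b = a * (a⁻¹ * b) := by group
  have h1 : (a * (a⁻¹ * b)) ^ p = a ^ p * (a⁻¹ * b) ^ p :=
    (show Commute a (a⁻¹ * b) from Subgroup.mem_center_iff.1 hc a).mul_pow p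
  rw [← hb', ha, hb, one_mul] at h1
  rcases center_co0_cases hc with h2 | h2
  · exact inv_mul_eq_one.1 h2
  · exfalso
    obtain ⟨m, rfl⟩ := hp
    have h3 : negAut * negAut = 1 := co_ext fun v => by
      rw [mul_smul, negAut_smul, negAut_smul, neg_neg, one_smul]
    rw [h2, pow_succ, pow_mul, pow_two, h3, one_pow, one_mul] at h1
    exact negAut_ne_one h1.symm

theorem eq_one_of_mem_qG {B : Subgroup G} [Finite G] {p : ℕ} (hp : p.Prime) (hp2 : p ≠ 2)
    (hS : IsExtraspecialCentralizerSetting z Q 12) (hB : Nat.card B = p) {y : G} (hy : y ∈ B)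
    (hyQ : y ∈ qG Q) : y = 1 := by
  have h1 : orderOf y ∣ p := hB ▸ Subgroup.orderOf_dvd_natCard B hy
  have h2 : orderOf y ∣ 2 ^ 25 := card_qG hS ▸ Subgroup.orderOf_dvd_natCard _ hyQ
  have hc : Nat.Coprime p (2 ^ 25) :=
    Nat.Coprime.pow_right 25 ((Nat.coprime_primes hp Nat.prime_two).2 hp2)
  exact orderOf_eq_one_iff.1 (Nat.eq_one_of_dvd_coprimes hc h1 h2)

/-- Every subgroup of odd prime order of the joint centraliser has such coordinates. -/
theorem exists_localData [Finite G] (hM : IsOfMonsterType z Q) {s : G} (hsQ : s ∈ qG Q)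
    (hs : IsConj z s) (hs1 : s ≠ z) {p : ℕ} (hp : p.Prime) (hp2 : p ≠ 2) {B : Subgroup G}
    (hB : B ≤ Subgroup.centralizer ({z, s} : Set G)) (hcard : Nat.card B = p) :
    ∃ (e : (Subgroup.centralizer ({z} : Set G)) ⧸ Q ≃* Spor.Co1)
      (ψ : leechLattice → Q ⧸ Subgroup.center Q) (x : Q) (g : Co0),
      ((x : Subgroup.centralizer ({z} : Set G)) : G) = s ∧ LocalData p e ψ x B g := by
  obtain ⟨hS, e, ψ, hψ⟩ := hM
  obtain ⟨hsc, hsQ'⟩ := mem_qG_iff.1 hsQ
  set x : Q := ⟨⟨s, hsc⟩, hsQ'⟩ with hx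
  obtain ⟨v, hv, hvx⟩ := exists_type64_of_conj hS hψ (x := x) hs hs1
  obtain ⟨g₀, hg₀⟩ := exists_congr_smul (v := v) (w := baseVec)
    (inner_self_of_norm (by rw [hv]; norm_num)) baseVec_eight
  have hψ' := isoTwist hψ g₀
  set e' := eTw e g₀
  set ψ' : leechLattice → Q ⧸ Subgroup.center Q := fun w => ψ (g₀⁻¹ • w) with hψdef
  have hbase : ψ' baseVec = QuotientGroup.mk x := by
    rw [← hvx]
    refine (psi_eq_iff hψ).2 ?_
    have h := neg_mem (smul_mem_twoMul g₀⁻¹ hg₀)
    rw [smul_sub', inv_smul_smul, neg_sub] at h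
    exact h
  haveI : Fact p.Prime := ⟨hp⟩
  obtain ⟨y, hy⟩ := (isCyclic_of_prime_card hcard).exists_generator
  have hyC : (y : G) ∈ Subgroup.centralizer ({z} : Set G) :=
    Subgroup.centralizer_le (by simp) (hB y.2)
  obtain ⟨g₁, hg₁⟩ := proj_surjective (e := e') (QuotientGroup.mk ⟨(y : G), hyC⟩)
  have hg₁m : g₁ ∈ crossStab := by
    rw [mem_crossStab_iff_congr, ← proj_mem_xSub_iff hS hψ' hbase (by rw [sqNorm_baseVec])
      (by rw [sqNorm_baseVec]; norm_num), hg₁]
    refine ⟨⟨(y : G), hyC⟩, Subgroup.mem_subgroupOf.2 ⟨hyC, ?_⟩, rfl⟩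
    exact Subgroup.centralizer_le (by simp [hx]) (hB y.2)
  have hyp : y ^ p = 1 := by rw [← hcard]; exact pow_card_eq_one'
  have hg₁p : g₁ ^ p ∈ Subgroup.center Co0 := by
    rw [← proj_eq_one_iff (e := e'), map_pow, hg₁, ← QuotientGroup.mk_pow]
    convert QuotientGroup.mk_one Q using 2
    exact Subtype.ext (by simpa using congrArg Subtype.val hyp)
  have hodd : Odd p := hp.odd_of_ne_two hp2
  have hnn : negAut * negAut = 1 := co_ext fun w => by
    rw [mul_smul, negAut_smul, negAut_smul, neg_neg, one_smul]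
  obtain ⟨g, hgp, hgm, hgproj⟩ : ∃ g : Co0, g ^ p = 1 ∧ g ∈ crossStab ∧
      proj e' g = QuotientGroup.mk ⟨(y : G), hyC⟩ := by
    rcases center_co0_cases hg₁p with h | h
    · exact ⟨g₁, h, hg₁m, hg₁⟩
    · refine ⟨g₁ * negAut, ?_, mul_mem hg₁m negAut_mem_crossStab, ?_⟩
      · rw [(show Commute g₁ negAut from Subgroup.mem_center_iff.1 negAut_mem_center g₁).mul_pow, h]
        obtain ⟨m, rfl⟩ := hodd
        rw [pow_succ negAut (2 * m), pow_mul, pow_two negAut, hnn, one_pow, one_mul, hnn]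
      · rw [map_mul, proj_eq_one_iff.2 negAut_mem_center, mul_one, hg₁]
  refine ⟨e', ψ', x, g, rfl, hS, hψ', hbase, hB, hp, hp2, hcard, hgm, ?_, ?_⟩
  · refine orderOf_eq_prime hgp fun h1 => ?_
    rw [h1, map_one] at hgproj
    have hyQ : (y : G) ∈ qG Q :=
      mem_qG_iff.2 ⟨hyC, (QuotientGroup.eq_one_iff _).1 hgproj.symm⟩
    have hy1 := eq_one_of_mem_qG hp hp2 hS hcard y.2 hyQ
    have : Nat.card B ≤ 1 := by
      rw [Finite.card_le_one_iff_subsingleton]
      refine ⟨fun a b => ?_⟩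
      obtain ⟨i, rfl⟩ := Subgroup.mem_zpowers_iff.1 (hy a)
      obtain ⟨j, rfl⟩ := Subgroup.mem_zpowers_iff.1 (hy b)
      rw [show y = 1 from Subtype.ext hy1, one_zpow, one_zpow]
    rw [hcard] at this
    exact absurd hp.two_le (by omega)
  · ext a
    rw [mem_barSub, Subgroup.mem_zpowers_iff, hgproj]
    constructor
    · rintro ⟨h, hh, rfl⟩
      obtain ⟨i, hi⟩ := Subgroup.mem_zpowers_iff.1 (hy ⟨(h : G), hh⟩)
      refine ⟨i, ?_⟩
      rw [← QuotientGroup.mk_zpow]
      congr 1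
      refine Subtype.ext ?_
      have := congrArg Subtype.val hi
      simpa using this
    · rintro ⟨i, rfl⟩
      refine ⟨⟨(y : G), hyC⟩ ^ i, ?_, QuotientGroup.mk_zpow _ _ _⟩
      simpa using zpow_mem y.2 i

namespace LocalData

variable [Finite G] {p : ℕ} {x : Q} {B : Subgroup G} {g : Co0}

theorem hpf (D : LocalData p e ψ x B g) : Odd p := D.prime.odd_of_ne_two D.odd

theorem gpow (D : LocalData p e ψ x B g) : g ^ p = 1 := D.gord ▸ pow_orderOf_eq_one g

theorem g_ne_one (D : LocalData p e ψ x B g) : g ≠ 1 := fun h => D.prime.ne_one (by rw [← D.gord, h, orderOf_one])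

theorem le_z (D : LocalData p e ψ x B g) : B ≤ Subgroup.centralizer ({z} : Set G) :=
  D.le.trans (Subgroup.centralizer_le (by simp))

theorem le_s (D : LocalData p e ψ x B g) :
    B ≤ Subgroup.centralizer ({((x : Subgroup.centralizer ({z} : Set G)) : G)} : Set G) :=
  D.le.trans (Subgroup.centralizer_le (by simp))

theorem isConj_s (D : LocalData p e ψ x B g) :
    IsConj z ((x : Subgroup.centralizer ({z} : Set G)) : G) ∧
      ((x : Subgroup.centralizer ({z} : Set G)) : G) ≠ z :=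
  (conj_iff_type64 D.hS D.iso x).2 ⟨baseVec, sqNorm_baseVec, D.base⟩

/-- The element may be replaced by a conjugate in the stabiliser of the cross. -/
theorem conj (D : LocalData p e ψ x B g) {m : Co0} (hm : m ∈ crossStab) :
    LocalData p (eTw e m) (fun v => ψ (m⁻¹ • v)) x B (m * g * m⁻¹) where
  hS := D.hS
  iso := isoTwist D.iso m
  base := by
    show ψ (m⁻¹ • baseVec) = _
    rw [← D.base]
    exact (psi_eq_iff D.iso).2 (mem_crossStab_iff_congr.1 (inv_mem hm))
  le := D.le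
  prime := D.prime
  odd := D.odd
  card := D.card
  gmem := mul_mem (mul_mem hm D.gmem) (inv_mem hm)
  gord := by rw [← D.gord]; exact orderOf_injective (MulAut.conj m).toMonoidHom (MulAut.conj m).injective g
  aligned := by
    rw [D.aligned, proj_eTw]
    congr 2
    group

/-- The element may be replaced by another generator. -/
theorem pow (D : LocalData p e ψ x B g) {k : ℕ} (hk : ¬ p ∣ k) : LocalData p e ψ x B (g ^ k) where
  hS := D.hS
  iso := D.iso
  base := D.base
  le := D.le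
  prime := D.prime
  odd := D.odd
  card := D.card
  gmem := pow_mem D.gmem k
  gord := by
    refine orderOf_eq_prime (hp := ⟨D.prime⟩) (by rw [← pow_mul, mul_comm, pow_mul, D.gpow, one_pow]) fun h => hk ?_
    rw [← D.gord]
    exact orderOf_dvd_of_pow_eq_one h
  aligned := by
    rw [D.aligned]
    refine le_antisymm ?_ (Subgroup.zpowers_le.2 (by rw [map_pow]; exact pow_mem (Subgroup.mem_zpowers _) k))
    rw [Subgroup.zpowers_le, map_pow]
    obtain ⟨m, hm⟩ := exists_pow_eq_self_of_coprime (n := k) (x := proj e g) (by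
      refine Nat.Coprime.coprime_dvd_right ?_ ((D.prime.coprime_iff_not_dvd).2 hk).symm
      rw [orderOf_dvd_iff_pow_eq_one, ← map_pow, D.gpow, map_one])
    exact Subgroup.mem_zpowers_iff.2 ⟨(m : ℤ), by rw [zpow_natCast]; exact hm⟩

theorem mem_bar (D : LocalData p e ψ x B g) {y : Subgroup.centralizer ({z} : Set G)} (hy : (y : G) ∈ B) :
    ∃ i : ℕ, proj e (g ^ i) = QuotientGroup.mk y := by
  have h : QuotientGroup.mk y ∈ Subgroup.zpowers (proj e g) := D.aligned ▸ mem_barSub.2 ⟨y, hy, rfl⟩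
  rw [← mem_powers_iff_mem_zpowers, Submonoid.mem_powers_iff] at h
  obtain ⟨i, hi⟩ := h
  exact ⟨i, by rw [map_pow, hi]⟩

theorem exists_gen (D : LocalData p e ψ x B g) :
    ∃ y : Subgroup.centralizer ({z} : Set G), (y : G) ∈ B ∧ QuotientGroup.mk y = proj e g :=
  mem_barSub.1 (D.aligned ▸ Subgroup.mem_zpowers _)

/-- The image of `B` determines its elements. -/
theorem eq_of_mk_eq (D : LocalData p e ψ x B g) {y y' : Subgroup.centralizer ({z} : Set G)}
    (hy : (y : G) ∈ B) (hy' : (y' : G) ∈ B) (h : (QuotientGroup.mk y : _ ⧸ Q) = QuotientGroup.mk y') :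
    y = y' := by
  have h1 : y⁻¹ * y' ∈ Q := QuotientGroup.eq.1 h
  have h2 := eq_one_of_mem_qG D.prime D.odd D.hS D.card (mul_mem (inv_mem hy) hy')
    (mem_qG_iff.2 ⟨(y⁻¹ * y').2, h1⟩)
  exact inv_mul_eq_one.1 (Subtype.ext h2)

/-- The image in `C / Q` of an element centralising `B` comes from the centraliser of `g`. -/
theorem proj_mem_cent (D : LocalData p e ψ x B g) {c : Subgroup.centralizer ({z} : Set G)}
    (hc : (c : G) ∈ Subgroup.centralizer (B : Set G)) :
    ∃ h ∈ Subgroup.centralizer ({g} : Set Co0), proj e h = QuotientGroup.mk c := by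
  obtain ⟨h, hh⟩ := proj_surjective (e := e) (QuotientGroup.mk c)
  refine ⟨h, Subgroup.mem_centralizer_singleton_iff.2 ?_, hh⟩
  obtain ⟨y, hy, hyg⟩ := D.exists_gen
  rw [← mul_inv_eq_iff_eq_mul]
  refine eq_of_proj_eq (e := e) D.hpf ?_ D.gpow ?_
  · rw [← MulAut.conj_apply, ← map_pow, D.gpow, map_one]
  · rw [map_mul, map_mul, map_inv, hh, ← hyg, ← QuotientGroup.mk_inv, ← QuotientGroup.mk_mul,
      ← QuotientGroup.mk_mul]
    congr 1
    refine Subtype.ext ?_
    rw [Subgroup.coe_mul, Subgroup.coe_mul, InvMemClass.coe_inv, mul_inv_eq_iff_eq_mul]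
    exact (Subgroup.mem_centralizer_iff.1 hc _ hy).symm

/-- An element normalising the image lifts to one inducing the same power map on `B`. -/
theorem lift_norm (D : LocalData p e ψ x B g) {h : Co0} {k : ℕ} (hk : h * g * h⁻¹ = g ^ k) :
    ∃ c : Subgroup.centralizer ({z} : Set G), QuotientGroup.mk c = proj e h ∧
      ∀ y ∈ B, (c : G) * y * (c : G)⁻¹ = y ^ k := by
  classical
  obtain ⟨c₀, hc₀⟩ := QuotientGroup.mk_surjective (proj e h)
  set BC : Subgroup (Subgroup.centralizer ({z} : Set G)) := B.subgroupOf (Subgroup.centralizer ({z} : Set G)) with hBC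
  have hcardBC : Nat.card BC = p :=
    (Nat.card_congr (Subgroup.subgroupOfEquivOfLe D.le_z).toEquiv).trans D.card
  set W : Subgroup (Subgroup.centralizer ({z} : Set G)) := (Subgroup.zpowers (proj e g)).comap (QuotientGroup.mk' Q) with hW
  have h1 : BC ≤ W := fun y hy => by
    rw [hW, Subgroup.mem_comap, ← D.aligned]
    exact mem_barSub.2 ⟨y, hy, rfl⟩
  have hkbar : ∀ i : ℕ, proj e h * proj e (g ^ i) * (proj e h)⁻¹ = proj e ((g ^ i) ^ k) := fun i => by
    rw [← map_inv, ← map_mul, ← map_mul, ← MulAut.conj_apply, map_pow (MulAut.conj h), MulAut.conj_apply, hk,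
      ← pow_mul, ← pow_mul, mul_comm k i]
  have h2 : BC.map (MulAut.conj c₀).toMonoidHom ≤ W := by
    rintro _ ⟨y, hy, rfl⟩
    obtain ⟨i, hi⟩ := D.mem_bar (Subgroup.mem_subgroupOf.1 hy)
    rw [hW, Subgroup.mem_comap]
    show QuotientGroup.mk' Q (c₀ * y * c₀⁻¹) ∈ _
    rw [map_mul, map_mul, map_inv, QuotientGroup.mk'_apply, QuotientGroup.mk'_apply, hc₀, ← hi, hkbar,
      ← pow_mul, map_pow]
    exact pow_mem (Subgroup.mem_zpowers _) _
  haveI : Fact p.Prime := ⟨D.prime⟩
  have hcardW : Nat.card W = p * 2 ^ 25 := by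
    rw [card_eq_map_mul_ker_inf (QuotientGroup.mk' Q) W, hW, Subgroup.map_comap_eq_self_of_surjective
      (QuotientGroup.mk'_surjective Q), inf_eq_left.2 (Subgroup.ker_le_comap _ _), QuotientGroup.ker_mk',
      card_Q D.hS, Nat.card_zpowers]
    congr 1
    refine orderOf_eq_prime (by rw [← map_pow, D.gpow, map_one]) fun h1 => ?_
    exact D.g_ne_one (eq_of_proj_eq (e := e) D.hpf D.gpow (one_pow p) (h1.trans (map_one _).symm))
  have mkSyl : ∀ S : Subgroup (Subgroup.centralizer ({z} : Set G)), S ≤ W → Nat.card S = p →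
      ∃ P : Sylow p W, (P : Subgroup W) = S.subgroupOf W := by
    intro S hSW hS'
    have hcS : Nat.card (S.subgroupOf W) = p :=
      (Nat.card_congr (Subgroup.subgroupOfEquivOfLe hSW).toEquiv).trans hS'
    refine ⟨IsPGroup.toSylow (IsPGroup.of_card (n := 1) (hcS.trans (pow_one p).symm)) ?_, rfl⟩
    have hidx : (S.subgroupOf W).index = 2 ^ 25 := by
      have := (S.subgroupOf W).card_mul_index
      rw [hcS, hcardW] at this
      exact Nat.eq_of_mul_eq_mul_left D.prime.pos this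
    rw [hidx]
    exact fun hd => D.odd ((Nat.prime_dvd_prime_iff_eq D.prime Nat.prime_two).1 (D.prime.dvd_of_dvd_pow hd))
  obtain ⟨P, hP⟩ := mkSyl BC h1 hcardBC
  obtain ⟨P', hP'⟩ := mkSyl _ h2 (by
    rw [Subgroup.card_map_of_injective (MulAut.conj c₀).injective, hcardBC])
  obtain ⟨w, hw⟩ := MulAction.exists_smul_eq W P' P
  obtain ⟨i, hi⟩ := Subgroup.mem_zpowers_iff.1 (show QuotientGroup.mk' Q (w : (Subgroup.centralizer ({z} : Set G))) ∈ _ from w.2)
  obtain ⟨y₀, hy₀, hy₀g⟩ := D.exists_gen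
  set b : (Subgroup.centralizer ({z} : Set G)) := y₀ ^ i with hb
  have hbB : (b : G) ∈ B := by simpa [hb] using zpow_mem hy₀ i
  have hbw : (QuotientGroup.mk b : (Subgroup.centralizer ({z} : Set G)) ⧸ Q) = QuotientGroup.mk (w : (Subgroup.centralizer ({z} : Set G))) := by
    rw [hb, QuotientGroup.mk_zpow, hy₀g]; exact hi
  refine ⟨b⁻¹ * (w : (Subgroup.centralizer ({z} : Set G))) * c₀, ?_, fun y hy => ?_⟩
  · rw [QuotientGroup.mk_mul, QuotientGroup.mk_mul, QuotientGroup.mk_inv, hbw, inv_mul_cancel, one_mul]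
    exact hc₀
  · set yC : (Subgroup.centralizer ({z} : Set G)) := ⟨y, D.le_z hy⟩
    have hmem : (w : (Subgroup.centralizer ({z} : Set G))) * (c₀ * yC * c₀⁻¹) * (w : (Subgroup.centralizer ({z} : Set G)))⁻¹ ∈ BC := by
      have h3 : w * (⟨c₀ * yC * c₀⁻¹, h2 ⟨yC, hy, rfl⟩⟩ : W) * w⁻¹ ∈ (P : Subgroup W) := by
        rw [← hw, Sylow.coe_subgroup_smul, Subgroup.pointwise_smul_def, hP']
        exact ⟨_, Subgroup.mem_subgroupOf.2 ⟨yC, hy, rfl⟩, rfl⟩
      rw [hP] at h3
      exact h3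
    have hmem' : ((b⁻¹ * (w : (Subgroup.centralizer ({z} : Set G))) * c₀ * yC * (b⁻¹ * (w : (Subgroup.centralizer ({z} : Set G))) * c₀)⁻¹ : (Subgroup.centralizer ({z} : Set G))) : G) ∈ B := by
      have e1 : b⁻¹ * (w : (Subgroup.centralizer ({z} : Set G))) * c₀ * yC * (b⁻¹ * (w : (Subgroup.centralizer ({z} : Set G))) * c₀)⁻¹ =
          b⁻¹ * ((w : (Subgroup.centralizer ({z} : Set G))) * (c₀ * yC * c₀⁻¹) * (w : (Subgroup.centralizer ({z} : Set G)))⁻¹) * b := by group
      rw [e1, Subgroup.coe_mul, Subgroup.coe_mul, InvMemClass.coe_inv]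
      exact mul_mem (mul_mem (inv_mem hbB) hmem) hbB
    have hyk : ((yC ^ k : (Subgroup.centralizer ({z} : Set G))) : G) ∈ B := by simpa using pow_mem hy k
    have heq := D.eq_of_mk_eq hmem' hyk (by
      obtain ⟨j, hj⟩ := D.mem_bar (y := yC) hy
      have hmk : (QuotientGroup.mk (b⁻¹ * (w : (Subgroup.centralizer ({z} : Set G))) * c₀) : (Subgroup.centralizer ({z} : Set G)) ⧸ Q) = proj e h := by
        rw [QuotientGroup.mk_mul, QuotientGroup.mk_mul, QuotientGroup.mk_inv, hbw, inv_mul_cancel,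
          one_mul, hc₀]
      rw [QuotientGroup.mk_mul, QuotientGroup.mk_mul, QuotientGroup.mk_inv, hmk, QuotientGroup.mk_pow, ← hj,
        hkbar, map_pow])
    have := congrArg Subtype.val heq
    simpa [mul_assoc] using this

/-- The centraliser of `g` lifts to the centraliser of `B`. -/
theorem lift_cent (D : LocalData p e ψ x B g) {h : Co0} (hh : h ∈ Subgroup.centralizer ({g} : Set Co0)) :
    ∃ c : Subgroup.centralizer ({z} : Set G), QuotientGroup.mk c = proj e h ∧
      (c : G) ∈ Subgroup.centralizer (B : Set G) := by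
  obtain ⟨c, hc, hconj⟩ := D.lift_norm (k := 1) (h := h) (by
    rw [pow_one, mul_inv_eq_iff_eq_mul]
    exact Subgroup.mem_centralizer_singleton_iff.1 hh)
  refine ⟨c, hc, Subgroup.mem_centralizer_iff.2 fun y hy => ?_⟩
  have := hconj y hy
  rw [pow_one, mul_inv_eq_iff_eq_mul] at this
  exact this.symm

end LocalData

end CfsgLib.MonsterType
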