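import Cfsg.Agent.Lib.MonsterType.Local.Basis
import Cfsg.Agent.Lib.MonsterType.Perp

/-!
# The part of `Q` centralised by a subgroup of odd prime order
-/

set_option autoImplicit false

open scoped Pointwise

namespace CfsgLib.MonsterType

open Cfsg CfsgLib.Leech CfsgLib.LargeExtra

variable {G : Type*} [Group G] {z : G} {Q : Subgroup (Subgroup.centralizer ({z} : Set G))} [Q.Normal]

/-- The elements of `Q` centralising `B`. -/
def centQ (Q : Subgroup (Subgroup.centralizer ({z} : Set G))) (B : Subgroup G) : Subgroup Q :=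
  (Subgroup.centralizer (B : Set G)).comap ((Subgroup.centralizer ({z} : Set G)).subtype.comp Q.subtype)

variable {e : (Subgroup.centralizer ({z} : Set G)) ⧸ Q ≃* Spor.Co1}
  {ψ : leechLattice → Q ⧸ Subgroup.center Q} [Finite G] {p : ℕ} {x : Q} {B : Subgroup G} {g : Co0}

namespace LocalData

variable (D : LocalData p e ψ x B g)

include D

theorem mem_centQ_iff_congr {q : Q} {v : leechLattice} (hv : ψ v = QuotientGroup.mk q) :
    q ∈ centQ Q B ↔ g • v - v ∈ twoMul leechLattice := by
  have hiso := D.iso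
  have hS := D.hS
  constructor
  · intro hq
    obtain ⟨y, hy, hyg⟩ := D.exists_gen
    rw [← psi_eq_iff hiso, psi_smul hiso hyg.symm hv, hv]
    congr 1
    refine Subtype.ext (Subtype.ext ?_)
    simp only [Subgroup.coe_mul, InvMemClass.coe_inv]
    rw [mul_inv_eq_iff_eq_mul]
    exact Subgroup.mem_centralizer_iff.1 hq _ hy
  · intro hfix
    refine Subgroup.mem_centralizer_iff.2 fun y hy => ?_
    set yC : Subgroup.centralizer ({z} : Set G) := ⟨y, D.le_z hy⟩
    obtain ⟨i, hi⟩ := D.mem_bar (y := yC) hy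
    have h1 := psi_smul hiso hi hv
    rw [(psi_eq_iff hiso).2 (pow_smul_congr hfix i), hv] at h1
    rcases (center_cases hS).1 (QuotientGroup.eq.1 h1) with h | h
    · simp only [Subgroup.coe_mul, InvMemClass.coe_inv, inv_mul_eq_one] at h
      exact (mul_inv_eq_iff_eq_mul.1 h.symm)
    · exfalso
      simp only [Subgroup.coe_mul, InvMemClass.coe_inv, inv_mul_eq_iff_eq_mul] at h
      set qG' : G := ((q : Subgroup.centralizer ({z} : Set G)) : G) with hq'
      have hzy : Commute y z := commute_z yC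
      have hm : ∀ m : ℕ, y ^ m * qG' * (y ^ m)⁻¹ = qG' * z ^ m := by
        intro m
        induction m with
        | zero => simp
        | succ m ih =>
          calc y ^ (m + 1) * qG' * (y ^ (m + 1))⁻¹ = y * (y ^ m * qG' * (y ^ m)⁻¹) * y⁻¹ := by
                rw [pow_succ']; group
            _ = y * qG' * z ^ m * y⁻¹ := by rw [ih]; group
            _ = (y * qG' * y⁻¹) * z ^ m := by
                rw [mul_assoc (y * qG'), ((hzy.pow_right m).symm.inv_right).eq, ← mul_assoc]
            _ = qG' * z ^ (m + 1) := by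
                rw [show y * qG' * y⁻¹ = qG' * z from h, mul_assoc, ← pow_succ']
      have hyp : y ^ p = 1 := by
        have := congrArg Subtype.val (pow_card_eq_one' (x := (⟨y, hy⟩ : B)))
        rw [D.card] at this
        simpa using this
      have h2 := hm p
      obtain ⟨l, hl⟩ := D.hpf
      rw [hyp, inv_one, one_mul, mul_one] at h2
      rw [hl, pow_succ, pow_mul, pow_two, z_sq hS, one_pow, one_mul] at h2
      exact z_ne_one hS (left_eq_mul.1 h2)

theorem center_le_centQ : Subgroup.center Q ≤ centQ Q B := fun c hc => by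
  refine (D.mem_centQ_iff_congr (v := 0) ?_).2 ?_
  · rw [psi_zero D.iso, eq_comm, QuotientGroup.eq_one_iff]
    exact hc
  · have : g • (0 : leechLattice) = 0 := map_zero (actHom g)
    rw [this, sub_self]
    exact zero_mem _

theorem self_mem_centQ : x ∈ centQ Q B :=
  Subgroup.mem_centralizer_iff.2 fun _ hy => Subgroup.mem_centralizer_singleton_iff.1 (D.le_s hy)

theorem card_centQ {n : ℕ} (Φ : FixBasis g n) : Nat.card (centQ Q B) = 2 ^ (n + 1) := by
  classical
  let f : Finset (Fin n) → Q ⧸ Subgroup.center Q := fun S => ψ (∑ i ∈ S, Φ.b i)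
  have hinj : Function.Injective f := fun S T h => Φ.eq_of_congr ((psi_eq_iff D.iso).1 h)
  have hrange : Set.range f = ((centQ Q B).map (QuotientGroup.mk' (Subgroup.center Q)) :
      Subgroup (Q ⧸ Subgroup.center Q)) := by
    ext a
    constructor
    · rintro ⟨S, rfl⟩
      obtain ⟨q, hq⟩ := QuotientGroup.mk_surjective (f S)
      exact ⟨q, (D.mem_centQ_iff_congr hq.symm).2 (by rw [Φ.fixed_sum, sub_self]; exact zero_mem _), hq⟩
    · rintro ⟨q, hq, rfl⟩
      obtain ⟨v, hv⟩ := exists_psi D.iso q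
      obtain ⟨S, hS'⟩ := Φ.span_congr D.hpf D.gpow ((D.mem_centQ_iff_congr hv).1 hq)
      exact ⟨S, ((psi_eq_iff D.iso).2 hS').symm.trans hv⟩
  rw [card_eq_map_mul_ker_inf (QuotientGroup.mk' (Subgroup.center Q)) (centQ Q B), QuotientGroup.ker_mk',
    inf_eq_left.2 D.center_le_centQ, (extraspecial D.hS).2, pow_succ]
  congr 1
  have h1 := Nat.card_range_of_injective hinj
  rw [hrange, Nat.card_eq_fintype_card (α := Finset (Fin n)), Fintype.card_finset, Fintype.card_fin] at h1
  exact h1

theorem mem_center_of_commute_centQ {q₀ : Q} (hq₀ : q₀ ∈ centQ Q B)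
    (hc : ∀ q ∈ centQ Q B, q₀ * q = q * q₀) : q₀ ∈ Subgroup.center Q := by
  have hS := D.hS
  have hiso := D.iso
  have hE := extraspecial hS
  let cm : Q → Q := fun q => q₀ * q * q₀⁻¹ * q⁻¹
  have hcm : ∀ q, cm q ∈ Subgroup.center Q := fun q => comm_mem_center hE q₀ q
  have hmul : ∀ a b, cm (a * b) = cm a * cm b := by
    intro a b
    calc cm (a * b) = (q₀ * a * q₀⁻¹) * (cm b) * a⁻¹ := by simp only [cm]; group
      _ = cm b * (q₀ * a * q₀⁻¹) * a⁻¹ := by rw [Subgroup.mem_center_iff.1 (hcm b) (q₀ * a * q₀⁻¹)]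
      _ = cm b * cm a := by simp only [cm]; group
      _ = cm a * cm b := (Subgroup.mem_center_iff.1 (hcm b) (cm a)).symm
  have hone : ∀ q, cm q = 1 ↔ q₀ * q = q * q₀ := fun q => by
    simp only [cm, mul_inv_eq_one, mul_inv_eq_iff_eq_mul, one_mul]
  have hclass : ∀ q q' : Q, (QuotientGroup.mk q : Q ⧸ Subgroup.center Q) = QuotientGroup.mk q' →
      cm q = cm q' := by
    intro q q' h
    have hcc : q⁻¹ * q' ∈ Subgroup.center Q := QuotientGroup.eq.1 h
    have e1 : q' = q * (q⁻¹ * q') := by group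
    rw [e1, hmul, (hone (q⁻¹ * q')).2 (Subgroup.mem_center_iff.1 hcc q₀), mul_one]
  obtain ⟨y, hy, hyg⟩ := D.exists_gen
  have hyq₀ : (y : G) * ((q₀ : Subgroup.centralizer ({z} : Set G)) : G) =
      ((q₀ : Subgroup.centralizer ({z} : Set G)) : G) * (y : G) :=
    Subgroup.mem_centralizer_iff.1 hq₀ _ hy
  have hconj : ∀ q : Q, cm ⟨y * q * y⁻¹, (inferInstance : Q.Normal).conj_mem _ q.2 y⟩ = cm q := by
    intro q
    have e1 : ((cm ⟨y * q * y⁻¹, (inferInstance : Q.Normal).conj_mem _ q.2 y⟩ : Q) : G) =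
        (y : G) * ((cm q : Q) : G) * (y : G)⁻¹ := by
      simp only [cm, Subgroup.coe_mul, InvMemClass.coe_inv]
      calc _ = ((q₀ : Subgroup.centralizer ({z} : Set G)) : G) * (y : G) *
            ((q : Subgroup.centralizer ({z} : Set G)) : G) *
            (((q₀ : Subgroup.centralizer ({z} : Set G)) : G) * (y : G))⁻¹ * ((y : G) *
              ((q : Subgroup.centralizer ({z} : Set G)) : G)⁻¹ * (y : G)⁻¹) := by group
        _ = _ := by rw [← hyq₀]; group
    refine Subtype.ext (Subtype.ext (e1.trans ?_))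
    rcases (center_cases hS).1 (hcm q) with h | h
    · rw [h, mul_one, mul_inv_cancel]
    · rw [h, commute_z, mul_assoc, mul_inv_cancel, mul_one]
  rw [Subgroup.mem_center_iff]
  intro q
  refine ((hone q).1 ?_).symm
  obtain ⟨v, hv⟩ := exists_psi hiso q
  have horb : ∀ i : ℕ, ∃ q' : Q, ψ ((g ^ i) • v) = QuotientGroup.mk q' ∧ cm q' = cm q := by
    intro i
    induction i with
    | zero => exact ⟨q, by rw [pow_zero, one_smul]; exact hv, rfl⟩
    | succ i ih =>
      obtain ⟨q', h1, h2⟩ := ih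
      refine ⟨⟨y * q' * y⁻¹, (inferInstance : Q.Normal).conj_mem _ q'.2 y⟩, ?_, (hconj q').trans h2⟩
      rw [pow_succ', mul_smul]
      exact psi_smul hiso hyg.symm h1
  have hsum : ∀ m : ℕ, ∃ qs : Q, ψ (∑ i ∈ Finset.range m, (g ^ i) • v) = QuotientGroup.mk qs ∧
      cm qs = cm q ^ m := by
    intro m
    induction m with
    | zero =>
      exact ⟨1, by rw [Finset.sum_range_zero, psi_zero hiso]; rfl, by rw [pow_zero, hone, one_mul, mul_one]⟩
    | succ m ih =>
      obtain ⟨qs, h1, h2⟩ := ih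
      obtain ⟨q', h3, h4⟩ := horb m
      exact ⟨qs * q', by rw [Finset.sum_range_succ, psi_add hiso, h1, h3]; rfl,
        by rw [hmul, h2, h4, pow_succ]⟩
  obtain ⟨qs, h1, h2⟩ := hsum p
  have hqs : qs ∈ centQ Q B :=
    (D.mem_centQ_iff_congr h1).2 (by rw [smul_orbit_sum D.gpow, sub_self]; exact zero_mem _)
  have h3 : cm q ^ p = 1 := by rw [← h2, hone]; exact hc qs hqs
  obtain ⟨l, hl⟩ := D.hpf
  rwa [hl, pow_succ, pow_mul, pow_two, center_sq hS (hcm q), one_pow, one_mul] at h3

end LocalData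

end CfsgLib.MonsterType
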