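import Cfsg.Agent.Lib.MonsterType.Setting
import Cfsg.Agent.Lib.PGroup.Basic
import Cfsg.Agent.Lib.LargeExtra.SimplicityCriterion
import Cfsg.Agent.Lib.Cores.Components

/-!
# Normal subgroups in the presence of an extraspecial centraliser setting

Every nontrivial normal subgroup contains the involution, so with enough conjugates in the extraspecial
subgroup the Fitting subgroup is trivial and every central extension of odd exponent has the involution
in its layer.
-/

set_option autoImplicit false

namespace CfsgLib.MonsterType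

open Cfsg Subgroup CfsgLib.LargeExtra

variable {K : Type*} [Group K] [Finite K] {u : K} {R : Subgroup (centralizer ({u} : Set K))} [R.Normal] {w : ℕ}

theorem setting_self_centralizing (hS : IsExtraspecialCentralizerSetting u R w) :
    centralizer (R : Set (centralizer ({u} : Set K))) ≤ R := by
  have := CfsgLib.Cores.centralizer_generalizedFittingSubgroup_le (G := centralizer ({u} : Set K))
  rwa [hS.2.1] at this

theorem setting_self_mem (hS : IsExtraspecialCentralizerSetting u R w) :
    (⟨u, mem_centralizer_singleton_iff.2 rfl⟩ : centralizer ({u} : Set K)) ∈ R :=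
  setting_self_centralizing hS (mem_centralizer_iff.2 fun y _ =>
    Subtype.ext (mem_centralizer_singleton_iff.1 y.2))

theorem setting_center_cases (hS : IsExtraspecialCentralizerSetting u R w) {r : R} (hr : r ∈ center R) :
    r = 1 ∨ r = ⟨_, setting_self_mem hS⟩ := by
  obtain ⟨c, -, -, hall⟩ := exists_centre_gen hS.2.2.1
  have hu : (⟨_, setting_self_mem hS⟩ : R) ∈ center R := mem_center_iff.2 fun y =>
    Subtype.ext (Subtype.ext (mem_centralizer_singleton_iff.1 (y : centralizer ({u} : Set K)).2))
  have hu1 : (⟨_, setting_self_mem hS⟩ : R) ≠ 1 := fun h => by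
    have h1 : u = 1 := congrArg (fun y : R => ((y : centralizer ({u} : Set K)) : K)) h
    have := hS.1
    rw [h1, orderOf_one] at this
    omega
  rw [(hall _ hu).resolve_left hu1]
  exact hall r hr

/-- A normal subgroup meeting the centraliser nontrivially contains the involution. -/
theorem mem_or_no_fixed (hS : IsExtraspecialCentralizerSetting u R w) (M : Subgroup K) [M.Normal] :
    u ∈ M ∨ ∀ m ∈ M, m * u = u * m → m = 1 := by
  by_contra! hcon
  obtain ⟨huM, m, hm, hmu, hm1⟩ := hcon
  haveI : (M.subgroupOf (centralizer ({u} : Set K))).Normal := Normal.subgroupOf inferInstance _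
  by_cases hW : R ⊓ M.subgroupOf (centralizer ({u} : Set K)) = ⊥
  · have hmc : (⟨m, mem_centralizer_singleton_iff.2 hmu⟩ : centralizer ({u} : Set K)) ∈
        centralizer (R : Set _) := by
      rw [mem_centralizer_iff]
      intro y hy
      exact (commute_of_normal_of_disjoint R _ inferInstance inferInstance (disjoint_iff.2 hW) y _ hy
        (mem_subgroupOf.2 hm)).eq
    have h1 := (eq_bot_iff_forall _).1 hW _
      (mem_inf.2 ⟨setting_self_centralizing hS hmc, mem_subgroupOf.2 hm⟩)
    exact hm1 (congrArg Subtype.val h1)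
  · set W := (R ⊓ M.subgroupOf (centralizer ({u} : Set K))).subgroupOf R with hWdef
    haveI : W.Normal := Normal.subgroupOf inferInstance _
    have hW1 : W ≠ ⊥ := fun h => hW (by
      rw [hWdef, subgroupOf_eq_bot] at h
      exact h.eq_bot_of_le inf_le_left)
    obtain ⟨⟨r, hr, hrc⟩, hr1⟩ := ne_bot_iff_exists_ne_one.1
      (CfsgLib.PGroup.inf_center_ne_bot (p := 2) hS.2.2.1.1.1 W hW1)
    rcases setting_center_cases hS hrc with h | h
    · exact hr1 (Subtype.ext h)
    · subst h
      exact huM (mem_subgroupOf.1 (mem_subgroupOf.1 hr).2)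

/-- Every nontrivial normal subgroup contains the involution. -/
theorem mem_of_normal (hS : IsExtraspecialCentralizerSetting u R w) {M : Subgroup K} [M.Normal] (hM : M ≠ ⊥) :
    u ∈ M := by
  by_contra huM
  obtain ⟨g, ⟨hq, -⟩, hgne⟩ := hS.2.2.2.2
  have huu : u * u = 1 := by rw [← sq, ← hS.1, pow_orderOf_eq_one]
  have hfix := (mem_or_no_fixed hS M).resolve_left huM
  have hi1 := inverts_of_no_fixed huu hfix
  obtain ⟨x, hx⟩ : ∃ x, x = g * u * g⁻¹ := ⟨_, rfl⟩
  have hxx : x * x = 1 := by
    rw [hx, show g * u * g⁻¹ * (g * u * g⁻¹) = g * (u * u) * g⁻¹ by group, huu]; group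
  have hfx : ∀ m ∈ M, m * x = x * m → m = 1 := by
    intro m hm hmx
    have h1 : g⁻¹ * m * g * u = u * (g⁻¹ * m * g) := by
      calc g⁻¹ * m * g * u = g⁻¹ * (m * (g * u * g⁻¹)) * g := by group
        _ = g⁻¹ * ((g * u * g⁻¹) * m) * g := by rw [← hx, hmx]
        _ = u * (g⁻¹ * m * g) := by group
    have := hfix _ (by simpa using (inferInstance : M.Normal).conj_mem m hm g⁻¹) h1
    calc m = g * (g⁻¹ * m * g) * g⁻¹ := by group
      _ = 1 := by rw [this]; group
  have hi2 := inverts_of_no_fixed hxx hfx
  have hux : u * x ∈ centralizer (M : Set K) := by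
    rw [mem_centralizer_iff]
    intro a ha
    refine (mul_inv_eq_iff_eq_mul.1 ?_).symm
    calc u * x * a * (u * x)⁻¹ = u * (x * a * x⁻¹) * u⁻¹ := by group
      _ = a := by rw [hi2 a ha, hi1 _ (inv_mem ha), inv_inv]
  rcases mem_or_no_fixed hS (centralizer (M : Set K)) with h | h
  · obtain ⟨a, ha, ha1⟩ := M.bot_or_exists_ne_one.resolve_left hM
    exact ha1 (hfix a ha ((mem_centralizer_iff.1 h) a ha))
  · have h1 := h _ hux (by rw [mul_assoc, hx, mem_centralizer_singleton_iff.1 hq])
    refine hgne ?_
    rw [← hx]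
    calc x = u * (u * x) := by rw [← mul_assoc, huu, one_mul]
      _ = u := by rw [h1, mul_one]

/-- With enough conjugates of the involution in the extraspecial subgroup the Fitting subgroup is trivial. -/
theorem fittingSubgroup_eq_bot (hS : IsExtraspecialCentralizerSetting u R w)
    (hcount : 2 ^ (w + 1) < {d : centralizer ({u} : Set K) | d ∈ R ∧ IsConj u (d : K)}.ncard) :
    fittingSubgroup K = ⊥ := by
  by_contra hne
  haveI := CfsgLib.Cores.fittingSubgroup_normal (G := K)
  haveI := CfsgLib.Cores.isNilpotent_fittingSubgroup (G := K)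
  haveI : Nontrivial (fittingSubgroup K) := (nontrivial_iff_ne_bot _).2 hne
  set A : Subgroup K := (center (fittingSubgroup K)).map (fittingSubgroup K).subtype with hA
  have hA1 : A ≠ ⊥ := by
    rw [hA, Ne, map_eq_bot_iff_of_injective _ (subtype_injective _)]
    exact Group.IsNilpotent.center_ne_bot (G := fittingSubgroup K)
  have hcomm : ∀ a ∈ A, ∀ b ∈ A, a * b = b * a := by
    rintro _ ⟨a, ha, rfl⟩ _ ⟨b, hb, rfl⟩
    exact congrArg Subtype.val ((mem_center_iff.1 ha b).symm)
  have hconj : ∀ d, IsConj u d → d ∈ A := by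
    intro d hd
    obtain ⟨g, rfl⟩ := isConj_iff.1 hd
    exact (inferInstance : A.Normal).conj_mem u (mem_of_normal hS hA1) g
  set AR : Subgroup R := A.comap ((centralizer ({u} : Set K)).subtype.comp R.subtype) with hAR
  set M := AR ⊔ center R
  have h1 : M ≤ centralizer (AR : Set R) :=
    sup_le (fun a ha => mem_centralizer_iff.2 fun b hb => Subtype.ext (Subtype.ext (hcomm _ hb _ ha)))
      (center_le_centralizer _)
  have h2 : M ≤ centralizer (M : Set R) :=
    sup_le (le_centralizer_iff.1 h1) (center_le_centralizer _)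
  have h3 := card_centralizer_mul_card hS.2.2.1 M le_sup_right
  rw [hS.2.2.1.2, hS.2.2.2.1] at h3
  have h4 := card_le_of_le h2
  have h5 : Nat.card M ≤ 2 ^ (w + 1) := by
    by_contra hlt
    have h6 : 2 ^ (w + 1) * 2 ^ (w + 1) < Nat.card M * Nat.card M := Nat.mul_self_lt_mul_self (not_le.1 hlt)
    have h7 : Nat.card M * Nat.card M ≤ Nat.card (centralizer (M : Set R)) * Nat.card M :=
      Nat.mul_le_mul_right _ h4
    have h8 : (2 : ℕ) ^ (w + 1) * 2 ^ (w + 1) = 2 * 2 ^ (2 * w + 1) := by
      rw [← pow_add, ← pow_succ']; congr 1; omega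
    omega
  have h6 : {d : centralizer ({u} : Set K) | d ∈ R ∧ IsConj u (d : K)}.ncard ≤ Nat.card M := by
    have hsub : {d : centralizer ({u} : Set K) | d ∈ R ∧ IsConj u (d : K)} ⊆
        ((M.map R.subtype : Subgroup (centralizer ({u} : Set K))) : Set (centralizer ({u} : Set K))) := by
      rintro d ⟨hd, hdc⟩
      exact ⟨⟨d, hd⟩, mem_sup_left (hconj _ hdc), rfl⟩
    refine (Set.ncard_le_ncard hsub (Set.toFinite _)).trans (le_of_eq ?_)
    rw [← Nat.card_coe_set_eq]
    exact card_map_of_injective (subtype_injective R)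
  omega

/-- Modulo a central subgroup of odd exponent, the involution and its conjugates lie in the layer. -/
theorem mem_layer_of_quot {H : Type*} [Group H] [Finite H] {N : Subgroup H} [N.Normal] (hN : N ≤ center H)
    {n : ℕ} (hn : Odd n) (hexp : ∀ b ∈ N, b ^ n = 1) {a : H} (ha : a * a = 1)
    {R' : Subgroup (centralizer ({(QuotientGroup.mk a : H ⧸ N)} : Set (H ⧸ N)))} [R'.Normal]
    (hS : IsExtraspecialCentralizerSetting (QuotientGroup.mk a : H ⧸ N) R' w)
    (hF : fittingSubgroup (H ⧸ N) = ⊥) : a ∈ layer H := by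
  classical
  haveI := CfsgLib.Cores.layer_normal (G := H)
  haveI := CfsgLib.Cores.fittingSubgroup_normal (G := H)
  have hFN : fittingSubgroup H ≤ N := by
    have hnil := CfsgLib.Cores.isNilpotent_fittingSubgroup (G := H)
    haveI : ((fittingSubgroup H).map (QuotientGroup.mk' N)).Normal :=
      Normal.map inferInstance _ (QuotientGroup.mk'_surjective N)
    have := CfsgLib.Cores.le_fittingSubgroup (G := H ⧸ N) (N := (fittingSubgroup H).map (QuotientGroup.mk' N))
      (Group.nilpotent_of_surjective ((QuotientGroup.mk' N).subgroupMap (fittingSubgroup H))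
        ((QuotientGroup.mk' N).subgroupMap_surjective _))
    rw [hF, le_bot_iff, Subgroup.map_eq_bot_iff, QuotientGroup.ker_mk'] at this
    exact this
  haveI : ((layer H).map (QuotientGroup.mk' N)).Normal :=
    Normal.map inferInstance _ (QuotientGroup.mk'_surjective N)
  have hne : (layer H).map (QuotientGroup.mk' N) ≠ ⊥ := by
    intro h
    rw [Subgroup.map_eq_bot_iff, QuotientGroup.ker_mk'] at h
    have h1 : generalizedFittingSubgroup H ≤ center H := (sup_le h hFN).trans hN
    have h2 : (⊤ : Subgroup H) ≤ generalizedFittingSubgroup H :=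
      le_trans (fun c _ => mem_centralizer_iff.2 fun y hy => (mem_center_iff.1 (h1 hy) c).symm)
        CfsgLib.Cores.centralizer_generalizedFittingSubgroup_le
    have h3 : a ∈ N := (sup_le h hFN) (h2 (mem_top _))
    have := hS.1
    rw [(QuotientGroup.eq_one_iff a).2 h3, orderOf_one] at this
    omega
  obtain ⟨y, hy, hya⟩ := mem_of_normal hS hne
  have hb : y⁻¹ * a ∈ N := QuotientGroup.eq.1 hya
  have hc : Commute y (y⁻¹ * a) := mem_center_iff.1 (hN hb) y
  have h1 : y ^ n = a := by
    have h2 : (y * (y⁻¹ * a)) ^ n = y ^ n := by rw [hc.mul_pow, hexp _ hb, mul_one]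
    rw [mul_inv_cancel_left] at h2
    obtain ⟨l, rfl⟩ := hn
    rw [← h2, pow_succ, pow_mul, sq, ha, one_pow, one_mul]
  exact h1 ▸ pow_mem hy n

end CfsgLib.MonsterType
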